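import Groth.Agent.TwCLib.Structure
import Groth.Agent.GUPoly.Basic
import Mathlib.AlgebraicGeometry.Morphisms.Smooth
import Mathlib.RingTheory.RingHom.StandardSmooth
import Mathlib.RingTheory.Polynomial.Quotient
import Groth.Agent.S4936

/-!
# Local irreducibility over irreducible geometrically unibranch bases

Schemes étale over smooth schemes over an irreducible scheme with geometrically unibranch local rings
are locally irreducible.  In a locally irreducible quasi-sober space every point has a unique maximal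
generisation and the set of specialisations of a maximal point is open.
-/

set_option autoImplicit false
universe u

open CategoryTheory AlgebraicGeometry TopologicalSpace

namespace Groth.Agent.SmoothUnib67

section top

variable {T : Type*} [TopologicalSpace T]

/-- every point has an irreducible open neighbourhood -/
def LocIrred (T : Type*) [TopologicalSpace T] : Prop :=
  ∀ x : T, ∃ N : Set T, IsOpen N ∧ x ∈ N ∧ IsIrreducible N

/-- a maximal point for generisation -/
def IsMaxPt (η : T) : Prop := ∀ z : T, z ⤳ η → η ⤳ z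

variable [QuasiSober T]

theorem exists_gen (hT : LocIrred T) (x : T) :
    ∃ N : Set T, IsOpen N ∧ x ∈ N ∧ ∃ ν : T, IsMaxPt ν ∧ ν ∈ N ∧ ∀ y ∈ N, ν ⤳ y := by
  obtain ⟨N, hN, hxN, hNi⟩ := hT x
  obtain ⟨ν, hν⟩ := QuasiSober.sober hNi.closure isClosed_closure
  have hy : ∀ y ∈ N, ν ⤳ y := fun y hy => hν.specializes (subset_closure hy)
  have hνN : ν ∈ N := (hy x hxN).mem_open hN hxN
  exact ⟨N, hN, hxN, ν, fun z hz => hy z (hz.mem_open hN hνN), hνN, hy⟩

theorem exists_max (hT : LocIrred T) (x : T) : ∃ η, IsMaxPt η ∧ η ⤳ x := by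
  obtain ⟨N, -, hxN, ν, hν, -, hy⟩ := exists_gen hT x
  exact ⟨ν, hν, hy x hxN⟩

theorem max_unique [T0Space T] (hT : LocIrred T) {x η η' : T} (hη : IsMaxPt η) (h : η ⤳ x) (hη' : IsMaxPt η')
    (h' : η' ⤳ x) : η = η' := by
  obtain ⟨N, hN, hxN, ν, -, -, hy⟩ := exists_gen hT x
  have h1 : ν ⤳ η := hy η (h.mem_open hN hxN)
  have h2 : ν ⤳ η' := hy η' (h'.mem_open hN hxN)
  exact ((hη ν h1).antisymm h1).eq.trans (h2.antisymm (hη' ν h2)).eq

theorem isOpen_spec (hT : LocIrred T) [T0Space T] {η : T} (hη : IsMaxPt η) : IsOpen {x : T | η ⤳ x} := by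
  rw [isOpen_iff_mem_nhds]
  intro x hx
  obtain ⟨N, hN, hxN, ν, hν, -, hy⟩ := exists_gen hT x
  obtain rfl : η = ν := max_unique hT hη hx hν (hy x hxN)
  exact Filter.mem_of_superset (hN.mem_nhds hxN) hy

end top

theorem isPrime_nilradical_mvPolynomial {R : Type u} [CommRing R] (σ : Type u)
    (hR : (nilradical R).IsPrime) : (nilradical (MvPolynomial σ R)).IsPrime := by
  have hP : (Ideal.map (MvPolynomial.C (σ := σ)) (nilradical R)).IsPrime := by
    haveI := hR
    rw [← Ideal.Quotient.isDomain_iff_prime]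
    exact (MvPolynomial.quotientEquivQuotientMvPolynomial (σ := σ) (nilradical R)).toRingEquiv.symm.toMulEquiv.isDomain (MvPolynomial σ (R ⧸ nilradical R))
  have h : nilradical (MvPolynomial σ R) = Ideal.map (MvPolynomial.C (σ := σ)) (nilradical R) := by
    refine le_antisymm ?_ ?_
    · rw [nilradical_eq_sInf]
      exact sInf_le hP
    · rw [Ideal.map_le_iff_le_comap]
      intro a ha
      rw [Ideal.mem_comap, mem_nilradical]
      exact (mem_nilradical.1 ha).map _
  rw [h]
  exact hP

theorem isGeomUnibranch_spec_polynomial {R : Type u} [CommRing R] (σ : Type u) [Finite σ]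
    (hR : ∀ q : PrimeSpectrum R, CAlg2.IsGeomUnibranch (Localization.AtPrime q.asIdeal))
    (z : Spec (CommRingCat.of (MvPolynomial σ R))) :
    CAlg2.IsGeomUnibranch ((Spec (CommRingCat.of (MvPolynomial σ R))).presheaf.stalk z) := by
  let q : PrimeSpectrum (MvPolynomial σ R) := z
  have h := GUPoly.isGeomUnibranch_polynomial σ q.asIdeal (hR ⟨q.asIdeal.comap MvPolynomial.C, inferInstance⟩)
  refine GUPoly.isGeomUnibranch_congr ?_ h
  exact (IsLocalization.algEquiv q.asIdeal.primeCompl (Localization.AtPrime q.asIdeal)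
    ((Spec.structureSheaf (MvPolynomial σ R)).presheaf.stalk q)).toRingEquiv

/-- schemes étale over smooth schemes over an irreducible geometrically unibranch base are locally
irreducible -/
theorem locIrred_of_etale_of_smooth {S P X : Scheme.{u}} [IrreducibleSpace S]
    (hS : ∀ s : S, CAlg2.IsGeomUnibranch (S.presheaf.stalk s)) (f : P ⟶ S) [Smooth f]
    (h : X ⟶ P) [Etale h] : LocIrred X := by
  intro x
  obtain ⟨U, hU, V, hV, hpV, e, hstd⟩ := Smooth.exists_isStandardSmooth f (h.base x)
  obtain ⟨n, g, -, hg⟩ := RingHom.IsStandardSmooth.exists_etale_mvPolynomial hstd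
  let R := Γ(S, U)
  let M : Scheme.{u} := Spec (CommRingCat.of (MvPolynomial (ULift.{u} (Fin n)) R))
  let ρ : MvPolynomial (ULift.{u} (Fin n)) R →+* Γ(P, V) :=
    g.comp (MvPolynomial.renameEquiv R Equiv.ulift).toRingEquiv.toRingHom
  have hρ : ρ.Etale := RingHom.Etale.respectsIso.2 g (MvPolynomial.renameEquiv R Equiv.ulift).toRingEquiv hg
  haveI : Etale (Spec.map (CommRingCat.ofHom ρ)) := by
    rw [HasRingHomProperty.Spec_iff (P := @Etale)]; exact hρ
  haveI : IrreducibleSpace M := by
    haveI hUi : IrreducibleSpace (U : Scheme.{u}) := Subtype.irreducibleSpace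
      ⟨⟨f.base (h.base x), e hpV⟩, (PreirreducibleSpace.isPreirreducible_univ).open_subset U.2 (Set.subset_univ _)⟩
    haveI hR : IrreducibleSpace (PrimeSpectrum R) := by
      rw [irreducibleSpace_def]
      have h2 := ((irreducibleSpace_def _).1 hUi).image hU.isoSpec.hom.base hU.isoSpec.hom.continuous.continuousOn
      rwa [Set.top_eq_univ, Set.image_univ, Set.range_eq_univ.2 hU.isoSpec.hom.surjective] at h2
    have hnil : (nilradical R).IsPrime := by
      have := (PrimeSpectrum.isIrreducible_zeroLocus_iff (R := R) ⊥).1 (by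
        rw [Submodule.bot_coe, PrimeSpectrum.zeroLocus_singleton_zero]
        exact (irreducibleSpace_def _).1 hR)
      exact this
    have hnil' := isPrime_nilradical_mvPolynomial (ULift.{u} (Fin n)) hnil
    have : IsIrreducible (Set.univ : Set (PrimeSpectrum (MvPolynomial (ULift.{u} (Fin n)) R))) := by
      rw [← PrimeSpectrum.zeroLocus_singleton_zero, ← Submodule.bot_coe (R := MvPolynomial (ULift.{u} (Fin n)) R),
        PrimeSpectrum.isIrreducible_zeroLocus_iff]
      exact hnil'
    exact (irreducibleSpace_def _).2 this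
  have hM : ∀ z : M, CAlg2.IsGeomUnibranch (M.presheaf.stalk z) :=
    isGeomUnibranch_spec_polynomial _ fun q => by
      let s : U := hU.isoSpec.inv.base q
      have hq : hU.primeIdealOf s = q := by
        show hU.isoSpec.hom.base (hU.isoSpec.inv.base q) = q
        exact (Scheme.Hom.comp_apply _ _ _).symm.trans (by rw [Iso.inv_hom_id]; rfl)
      rw [← hq]
      letI := TopCat.Presheaf.algebra_section_stalk S.presheaf s
      haveI : IsLocalization.AtPrime (S.presheaf.stalk s.1) (hU.primeIdealOf s).asIdeal :=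
        hU.isLocalization_stalk s
      exact GUPoly.isGeomUnibranch_congr
        (IsLocalization.algEquiv (hU.primeIdealOf s).asIdeal.primeCompl (S.presheaf.stalk s.1)
          (Localization.AtPrime (hU.primeIdealOf s).asIdeal)).toRingEquiv (hS s.1)
  let W : X.Opens := h ⁻¹ᵁ V
  let φ : (W : Scheme.{u}) ⟶ M := (h ∣_ V) ≫ hV.isoSpec.hom ≫ Spec.map (CommRingCat.ofHom ρ)
  haveI : Etale (h ∣_ V) := MorphismProperty.of_isPullback (isPullback_morphismRestrict h V).flip inferInstance
  haveI : Etale φ := inferInstanceAs (Etale (_ ≫ _ ≫ _))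
  obtain ⟨N, hxN, hN⟩ := TwCLib.exists_irreducible_nhd φ hM ⟨x, hpV⟩
  exact ⟨W.ι ''ᵁ N, (W.ι ''ᵁ N).2, ⟨_, hxN, rfl⟩, hN.image _ W.ι.continuous.continuousOn⟩

end Groth.Agent.SmoothUnib67
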